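import Groth.Agent.Lib.QCohDesc.Effective
import Groth.Agent.Lib.DescAlg.PbSecPF

/-!
Effectivity for `Desc.modPF`.
-/

set_option autoImplicit false
set_option backward.isDefEq.respectTransparency false
set_option backward.isDefEq.respectTransparency.types false
set_option linter.style.haveILetI false

universe u

open CategoryTheory CategoryTheory.Limits AlgebraicGeometry Opposite
open ZarCoh.FlatBC.PullbackSections
open Groth.Agent.Lib.DescAlg.PbSec
open CategoryTheory.Pseudofunctor

namespace Groth.Agent.Lib.QCohDesc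

variable {ι : Type u} {S : Scheme.{u}} {X : ι → Scheme.{u}} {f : ∀ i, X i ⟶ S}

/-- A descent datum for `Desc.modPF` with quasi-coherent members. -/
noncomputable def ofDescentData (D : Desc.modPF.{u}.DescentData f)
    (hD : ∀ i, (D.obj i : (X i).Modules).IsQuasicoherent) : DD f where
  obj i := D.obj i
  qc := hD
  hom := fun {T i j} a b h => D.hom (a ≫ f i) a b rfl h.symm
  hom_self a := D.hom_self _ a rfl
  hom_comp := fun {T i j k} a b c h h' => by
    have e : ∀ (q : T ⟶ S) (hq : q = a ≫ f i) (hb : b ≫ f j = q) (hc : c ≫ f k = q),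
        D.hom (b ≫ f j) b c rfl h'.symm = D.hom q b c hb hc := by
      intro q hq hb hc
      subst hb
      rfl
    rw [e (a ≫ f i) rfl h.symm (h.trans h').symm]
    exact D.hom_comp _ a b c _ _ _
  hom_R := fun {T' T} g {i j} a b a' b' ha hb h {W W'} e x => by
    subst ha hb
    have h0 := D.pullHom_hom g (a ≫ f i) ((g ≫ a) ≫ f i) (Category.assoc _ _ _).symm a b rfl h.symm
      (g ≫ a) (g ≫ b) rfl rfl
    have h1 : (tr g (rfl : g ≫ a = g ≫ a) (D.obj i)).inv ≫
        (Scheme.Modules.pullback g).map (D.hom (a ≫ f i) a b rfl h.symm) ≫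
          (tr g (rfl : g ≫ b = g ≫ b) (D.obj j)).hom =
        D.hom ((g ≫ a) ≫ f i) (g ≫ a) (g ≫ b) rfl (by rw [Category.assoc, Category.assoc, h]) := by
      refine Eq.trans ?_ h0
      rw [← modPF_mapComp'_inv_app g b (g ≫ b) rfl, ← modPF_mapComp'_hom_app g a (g ≫ a) rfl]
      rfl
    rw [R_eq, R_eq, ← pbRes_natural, ← h1]
    have e1 : (tr g (rfl : g ≫ a = g ≫ a) (D.obj i)).hom.app W' ≫
        (tr g (rfl : g ≫ a = g ≫ a) (D.obj i)).inv.app W' = 𝟙 _ := by
      rw [← Scheme.Modules.Hom.comp_app, Iso.hom_inv_id]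
      rfl
    exact congrArg (fun t => (tr g (rfl : g ≫ b = g ≫ b) (D.obj j)).hom.app W'
      (((Scheme.Modules.pullback g).map (D.hom (a ≫ f i) a b rfl h.symm)).app W' t))
      (ConcreteCategory.congr_hom e1 _).symm

/-- Effectivity of descent data of quasi-coherent modules. -/
theorem exists_iso (hf : Presieve.ofArrows X f ∈ Scheme.fpqcPrecoverage S) (D : Desc.modPF.{u}.DescentData f)
    (hD : ∀ i, (D.obj i : (X i).Modules).IsQuasicoherent) :
    ∃ M : S.Modules, M.IsQuasicoherent ∧ Nonempty ((Desc.modPF.{u}.toDescentData f).obj M ≅ D) := by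
  let E := ofDescentData D hD
  refine ⟨E.glue hf, E.isQuasicoherent_glue hf, ⟨?_⟩⟩
  have := fun i => E.isIso_cmp hf i
  refine DescentData.isoMk (fun i => @asIso _ _ _ _ (E.cmp hf i) (this i)) ?_
  intro T q i j a b ha hb
  have h := E.hom_cmp hf q a b ha hb
  have e : D.hom q a b ha hb = D.hom (a ≫ f i) a b rfl (hb.trans ha.symm) := by
    subst ha
    rfl
  show (Scheme.Modules.pullback a).map (E.cmp hf i) ≫ D.hom q a b ha hb =
    (DescentData.ofObj (F := Desc.modPF.{u}) (f := f) (E.glue hf)).hom q a b ha hb ≫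
      (Scheme.Modules.pullback b).map (E.cmp hf j)
  rw [ofObj_hom, e]
  exact h

end Groth.Agent.Lib.QCohDesc
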