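import Groth.Agent.Lib.QCohDesc.Datum

/-!
Descent data of quasi-coherent modules along an fpqc covering family are effective.
-/

set_option autoImplicit false
set_option backward.isDefEq.respectTransparency false
set_option backward.isDefEq.respectTransparency.types false
set_option linter.style.haveILetI false

universe u w

open CategoryTheory CategoryTheory.Limits AlgebraicGeometry Opposite TopologicalSpace TensorProduct
open ZarCoh.FlatBC.PullbackSections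
open Groth.Agent.Lib.DescAlg.PbSec
open Groth.Agent.H14.ModDesc (IsBC IsSL Datum isBC_of_isIso_adjoint)

namespace Groth.Agent.Lib.QCohDesc

theorem id_comp_id {A B : Scheme.{u}} (q : A ⟶ B) : 𝟙 A ≫ q ≫ 𝟙 B = q := by simp

theorem id_comp_id_comp {A B C E : Scheme.{u}} (q : A ⟶ B) (b : B ⟶ C) (f : C ⟶ E) (a : A ⟶ C) (h : q ≫ b = a) :
    (𝟙 A ≫ q ≫ 𝟙 B) ≫ b ≫ f = a ≫ f := by simp [reassoc_of% h]

theorem eqToHom_R {Z T Y : Scheme.{u}} (g : Z ⟶ T) (a : T ⟶ Y) {a' : Z ⟶ Y} (h : g ≫ a = a') {M : Y.Modules}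
    {W : T.Opens} {W' : Z.Opens} (e : W' ≤ g ⁻¹ᵁ W) (x : Γ((Scheme.Modules.pullback a).obj M, W)) :
    (eqToHom (congrArg (fun c => (Scheme.Modules.pullback c).obj M) h)).app W' (R g rfl M e x) = R g h M e x := by
  subst h
  rfl

/-- The descent datum of a module along the identity. -/
noncomputable def selfDD {Y : Scheme.{u}} (N : Y.Modules) (hN : N.IsQuasicoherent) :
    DD (fun _ : PUnit.{u + 1} => 𝟙 Y) where
  obj _ := N
  qc _ := hN
  hom {T _ _} a b h := eqToHom (congrArg (fun c => (Scheme.Modules.pullback c).obj N) (by simpa using h))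
  hom_self _ := eqToHom_refl _ _
  hom_comp _ _ _ _ _ := eqToHom_trans _ _
  hom_R := fun {T' T} g {i j} a b a' b' ha hb h {W W'} e x => by
    obtain rfl : a = b := by simpa using h
    obtain rfl : a' = b' := ha.symm.trans hb
    simp only [eqToHom_refl]
    rfl

theorem selfCover (Y : Scheme.{u}) :
    Presieve.ofArrows (fun _ : PUnit.{u + 1} => Y) (fun _ => 𝟙 Y) ∈ Scheme.fpqcPrecoverage Y := by
  rw [Presieve.ofArrows_pUnit]
  exact Scheme.Hom.singleton_mem_fpqcPrecoverage (𝟙 Y)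

/-- A module as a module on the datum of its affine lifts. -/
noncomputable def selfPt {Y : Scheme.{u}} (N : Y.Modules) (hN : N.IsQuasicoherent) :
    ((selfDD N hN).toDatum (selfCover Y)).Pt N where
  val U l h := pbRes l.a N (U := U) (V := ⊤) h
  sl U l h r s := by
    have e : ∀ (c : l.Z ⟶ Y) (_ : c = l.a) (hc : ⊤ ≤ c ⁻¹ᵁ U), c.appLE U ⊤ hc = l.a.appLE U ⊤ h := by
      rintro c rfl hc
      rfl
    show pbRes l.a N _ (r • s) = ((l.a ≫ 𝟙 Y).appLE U ⊤ _).hom r • pbRes l.a N _ s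
    rw [pbRes_smul, e (l.a ≫ 𝟙 Y) (Category.comp_id _)]
  res_open := fun {U V} i l h h' s => by
    show ((Scheme.Modules.pullback l.a).obj N).presheaf.map (homOfLE (h' : (⊤ : l.Z.Opens) ≤ l.a ⁻¹ᵁ V)).op _ = _
    refine (congrArg (fun z => ((Scheme.Modules.pullback l.a).obj N).presheaf.map
      (homOfLE (h' : (⊤ : l.Z.Opens) ≤ l.a ⁻¹ᵁ V)).op z) (ConcreteCategory.congr_hom
      (((Scheme.Modules.pullbackPushforwardAdjunction l.a).unit.app N).mapPresheaf.naturality (homOfLE i).op) s)).trans ?_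
    show ((Scheme.Modules.pullback l.a).obj N).presheaf.map _ (((Scheme.Modules.pullback l.a).obj N).presheaf.map _ _) =
      ((Scheme.Modules.pullback l.a).obj N).presheaf.map _ _
    rw [← ConcreteCategory.comp_apply, ← CategoryTheory.Functor.map_comp]
    rfl
  res_lift := fun {U l' l g} hg h h' s => by
    have hg' : g ≫ l.a = l'.a := by
      have : g ≫ l.a ≫ 𝟙 Y = l'.a ≫ 𝟙 Y := hg
      simpa using this
    exact (eqToHom_R g l.a hg' (W := ⊤) (W' := ⊤) le_top (pbRes l.a N (U := U) (V := ⊤) h s)).trans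
      (R_pbRes g hg' N (U := U) (W := ⊤) (W' := ⊤) h le_top s)

theorem isIso_selfPt {Y : Scheme.{u}} (N : Y.Modules) (hN : N.IsQuasicoherent) : IsIso (selfPt N hN).hom := by
  refine Datum.Pt.isIso_hom _ fun {U} l h hU => ?_
  haveI := l.aff
  haveI := hN
  let φ := (Scheme.Modules.pullbackPushforwardAdjunction l.a).homEquiv N _ (𝟙 _)
  have hφ : IsIso (((Scheme.Modules.pullbackPushforwardAdjunction l.a).homEquiv _ _).symm φ) := by
    simp only [φ, Equiv.symm_apply_apply]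
    infer_instance
  refine (isBC_of_isIso_adjoint l.a φ hφ hU (isAffineOpen_top _) h).congr ?_ ?_
  · have e : ∀ (c : l.Z ⟶ Y) (_ : c = l.a) (hc : ⊤ ≤ c ⁻¹ᵁ U), l.a.appLE U ⊤ h = c.appLE U ⊤ hc := by
      rintro c rfl hc
      rfl
    exact congrArg CommRingCat.Hom.hom (e (l.a ≫ 𝟙 Y) (Category.comp_id _) _)
  · refine AddMonoidHom.ext fun x => ?_
    show ((Scheme.Modules.pullback l.a).obj N).presheaf.map _ (φ.app U x) = pbRes l.a N _ x
    simp only [φ, Adjunction.homEquiv_unit, CategoryTheory.Functor.map_id, Category.comp_id]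
    rfl

namespace DD

variable {ι : Type u} {S : Scheme.{u}} {X : ι → Scheme.{u}} {f : ∀ i, X i ⟶ S} (D : DD f)

theorem hom_eq_eqToHom {T : Scheme.{u}} {i : ι} {a b : T ⟶ X i} (h : a = b) :
    D.hom a b (by rw [h]) = eqToHom (congrArg (fun c => (Scheme.Modules.pullback c).obj (D.obj i)) h) := by
  subst h
  exact D.hom_self a

variable (hf : Presieve.ofArrows X f ∈ Scheme.fpqcPrecoverage S)

/-- The lifts over a member, among all lifts. -/
noncomputable def memberMap (i : ι) :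
    Datum.Map ((selfDD (D.obj i) (D.qc i)).toDatum (selfCover (X i))) (D.toDatum hf) (f i) where
  obj l := ⟨i, l.Z, l.aff, l.a⟩
  e l := Iso.refl _
  over l := by
    show 𝟙 l.Z ≫ l.a ≫ f i = (l.a ≫ 𝟙 (X i)) ≫ f i
    simp
  φ l := AddMonoidHom.id _
  sl l := fun r x => by
    have hr : (Scheme.Hom.appTop (𝟙 l.Z)).hom r = r := by
      rw [Scheme.Hom.id_appTop]
      rfl
    exact congrArg (fun t : Γ(l.Z, ⊤) => t • (show Γ((Scheme.Modules.pullback l.a).obj (D.obj i), ⊤) from x)) hr.symm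
  rel := fun {l₁ l₂ q} hq => by
    have h : q ≫ l₂.a ≫ 𝟙 (X i) = l₁.a ≫ 𝟙 (X i) := hq
    simp only [Category.comp_id] at h
    exact id_comp_id_comp q l₂.a (f i) l₁.a h
  comm := fun {l₁ l₂ q} hq x => by
    have h : q ≫ l₂.a = l₁.a := by
      have : q ≫ l₂.a ≫ 𝟙 (X i) = l₁.a ≫ 𝟙 (X i) := hq
      simpa using this
    refine (eqToHom_R q l₂.a h (W := ⊤) (W' := ⊤) le_top
      (show Γ((Scheme.Modules.pullback l₂.a).obj (D.obj i), ⊤) from x)).trans ?_
    have key : ∀ (g : l₁.Z ⟶ l₂.Z) (_ : g = q) (hr : g ≫ l₂.a ≫ f i = l₁.a ≫ f i)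
        (y : Γ((Scheme.Modules.pullback l₂.a).obj (D.obj i), ⊤)),
        R q h (D.obj i) (W := ⊤) (W' := ⊤) le_top y = D.res (l' := ⟨i, l₁.Z, l₁.aff, l₁.a⟩) (l := ⟨i, l₂.Z, l₂.aff, l₂.a⟩) g hr y := by
      rintro g rfl hr y
      rw [res_apply, D.hom_eq_eqToHom h]
      exact (eqToHom_R g l₂.a h le_top y).symm
    exact key _ (id_comp_id q) (id_comp_id_comp q l₂.a (f i) l₁.a h) x

/-- The descended module. -/
noncomputable def glue : S.Modules := Groth.Agent.H14.ModDesc.Datum.descMod (D.toDatum hf)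

theorem isQuasicoherent_glue : (D.glue hf).IsQuasicoherent :=
  Groth.Agent.H14.ModDesc.Datum.isQuasicoherent_descMod _

/-- The descended module maps to the direct images of the members. -/
noncomputable def ψ (i : ι) : D.glue hf ⟶ (Scheme.Modules.pushforward (f i)).obj (D.obj i) :=
  have := isIso_selfPt (D.obj i) (D.qc i)
  Datum.descMap (D.memberMap hf i) ≫ (Scheme.Modules.pushforward _).map (inv (selfPt (D.obj i) (D.qc i)).hom)

/-- The comparison with a member. -/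
noncomputable def cmp (i : ι) : (Scheme.Modules.pullback (f i)).obj (D.glue hf) ⟶ D.obj i :=
  ((Scheme.Modules.pullbackPushforwardAdjunction (f i)).homEquiv _ _).symm (D.ψ hf i)

theorem isIso_cmp (i : ι) : IsIso (D.cmp hf i) := by
  have := isIso_selfPt (D.obj i) (D.qc i)
  have := Datum.isIso_adjoint_descMap (D.memberMap hf i) fun _ => Function.bijective_id
  show IsIso (((Scheme.Modules.pullbackPushforwardAdjunction (f i)).homEquiv _ _).symm (_ ≫ _))
  rw [Adjunction.homEquiv_naturality_right_symm]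
  exact IsIso.comp_isIso' this inferInstance

theorem cmp_pbRes (i : ι) (U : S.Opens) (m : Γ(D.glue hf, U)) :
    (D.cmp hf i).app (f i ⁻¹ᵁ U) (pbRes (f i) (D.glue hf) le_rfl m) = (D.ψ hf i).app U m := by
  show (((Scheme.Modules.pullbackPushforwardAdjunction (f i)).homEquiv _ _).symm (D.ψ hf i)).app _ _ = _
  rw [Groth.Agent.Lib.CohDelta.BC.Transpose.transpose_pbRes]
  show (D.obj i).presheaf.map (𝟙 _) _ = _
  rw [CategoryTheory.Functor.map_id]
  rfl

theorem toFam_ψ (i : ι) (U : S.Opens) (m : Γ(D.glue hf, U)) :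
    (selfPt (D.obj i) (D.qc i)).toFam (f i ⁻¹ᵁ U) ((D.ψ hf i).app U m) =
      Datum.famMap (D.memberMap hf i) le_rfl ((D.toDatum hf).secEquiv U m) := by
  have := isIso_selfPt (D.obj i) (D.qc i)
  have e : D.ψ hf i ≫ (Scheme.Modules.pushforward (f i)).map (selfPt (D.obj i) (D.qc i)).hom =
      Datum.descMap (D.memberMap hf i) := by
    rw [ψ, Category.assoc, ← Functor.map_comp, IsIso.inv_hom_id, CategoryTheory.Functor.map_id]
    exact Category.comp_id _
  refine (Datum.Pt.secEquiv_hom (selfPt (D.obj i) (D.qc i)) (f i ⁻¹ᵁ U) ((D.ψ hf i).app U m)).symm.trans ?_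
  refine Eq.trans ?_ (Datum.secEquiv_descMap (D.memberMap hf i) U m)
  exact congrArg _ (congrArg (fun k : D.glue hf ⟶ _ => k.app U m) e)

theorem pbRes_ψ (i : ι) (U : S.Opens) (m : Γ(D.glue hf, U)) {Z : Scheme.{u}} [IsAffine Z] (a : Z ⟶ X i)
    (h : ⊤ ≤ a ⁻¹ᵁ (f i ⁻¹ᵁ U)) (c : Z ⟶ U.toScheme) (hc : c ≫ U.ι = a ≫ f i) :
    pbRes a (D.obj i) h ((D.ψ hf i).app U m) =
      ((D.toDatum hf).secEquiv U m).1 ⟨i, Z, inferInstance, a⟩ ⟨c, hc⟩ := by
  have hr : Set.range a ⊆ Set.range (f i ⁻¹ᵁ U).ι := by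
    rintro _ ⟨z, rfl⟩
    rw [Scheme.Opens.range_ι]
    exact h (x := z) trivial
  let c' := IsOpenImmersion.lift (f i ⁻¹ᵁ U).ι a hr
  have hc' : c' ≫ (f i ⁻¹ᵁ U).ι = a ≫ 𝟙 (X i) := by
    rw [Category.comp_id]
    exact IsOpenImmersion.lift_fac _ _ _
  let L : Lift fun _ : PUnit.{u + 1} => X i := ⟨⟨⟩, Z, inferInstance, a⟩
  have h2 := congrFun (congrFun (congrArg Subtype.val (D.toFam_ψ hf i U m)) L) ⟨c', hc'⟩
  refine Eq.trans ?_ (h2.trans ?_)
  · rfl
  · refine (Datum.famMap_val (D.memberMap hf i) _ _ L c' hc').trans ?_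
    refine Datum.fam_congr ((D.toDatum hf).secEquiv U m) ?_ _ _
    show 𝟙 Z ≫ c' ≫ (f i).resLE U (f i ⁻¹ᵁ U) le_rfl = c
    rw [← cancel_mono U.ι, hc, Category.id_comp, Category.assoc, Scheme.Hom.resLE_comp_ι, reassoc_of% hc']

theorem value_eq {Z : Scheme.{u}} [IsAffine Z] {i j : ι} (a : Z ⟶ X i) (b : Z ⟶ X j)
    (h : a ≫ f i = b ≫ f j) (U : S.Opens) (m : Γ(D.glue hf, U))
    (ha : ⊤ ≤ a ⁻¹ᵁ (f i ⁻¹ᵁ U)) (hb : ⊤ ≤ b ⁻¹ᵁ (f j ⁻¹ᵁ U)) :
    (D.hom a b h).app ⊤ (pbRes a (D.obj i) ha ((D.ψ hf i).app U m)) =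
      pbRes b (D.obj j) hb ((D.ψ hf j).app U m) := by
  have hr : Set.range (a ≫ f i) ⊆ Set.range U.ι := by
    rintro _ ⟨z, rfl⟩
    rw [Scheme.Opens.range_ι, Scheme.Hom.comp_apply]
    exact ha (x := z) trivial
  let c := IsOpenImmersion.lift U.ι (a ≫ f i) hr
  have hc : c ≫ U.ι = a ≫ f i := IsOpenImmersion.lift_fac _ _ _
  rw [D.pbRes_ψ hf i U m a ha c hc, D.pbRes_ψ hf j U m b hb c (hc.trans h)]
  let l : Lift X := ⟨i, Z, inferInstance, a⟩
  let l' : Lift X := ⟨j, Z, inferInstance, b⟩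
  have hrel : 𝟙 Z ≫ a ≫ f i = b ≫ f j := (Category.id_comp _).trans h
  have key := ((D.toDatum hf).secEquiv U m).2 (l' := l') (l := l) (𝟙 Z) hrel c hc
  refine Eq.trans ?_ (key.trans (Datum.fam_congr _ (Category.id_comp c) _ _))
  let x := ((D.toDatum hf).secEquiv U m).1 l ⟨c, hc⟩
  show (D.hom a b h).app ⊤ x = D.res (l' := l') (l := l) (𝟙 Z) hrel x
  rw [res_apply]
  refine Eq.symm ((D.hom_congr_R (𝟙 Z) a b rfl (Category.id_comp a) _ h (W := ⊤) (W' := ⊤) le_top x).trans ?_)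
  refine congrArg _ ((R_id (D.obj i) (W := ⊤) (W' := ⊤) le_top x).trans ?_)
  show ((Scheme.Modules.pullback a).obj (D.obj i)).presheaf.map (𝟙 _) x = x
  rw [CategoryTheory.Functor.map_id]
  rfl

/-- Sections agree if their pullbacks to affine opens agree. -/
theorem ext_pbRes {T : Scheme.{u}} {Y : Scheme.{u}} (b : T ⟶ Y) (N : Y.Modules) {W : T.Opens}
    {x y : Γ((Scheme.Modules.pullback b).obj N, W)}
    (h : ∀ (A : T.Opens) (_ : IsAffineOpen A) (hA : A ≤ W),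
      R A.ι (rfl : A.ι ≫ b = A.ι ≫ b) N (W := W) (W' := ⊤) (fun z _ => hA z.2) x =
        R A.ι rfl N (W := W) (W' := ⊤) (fun z _ => hA z.2) y) : x = y := by
  let P : TopCat.Sheaf AddCommGrpCat.{u} T :=
    ⟨((Scheme.Modules.pullback b).obj N).presheaf, ((Scheme.Modules.pullback b).obj N).isSheaf⟩
  refine TopCat.Sheaf.eq_of_locally_eq' P
    (fun A : {A : T.Opens // IsAffineOpen A ∧ A ≤ W} => A.1) W (fun A => homOfLE A.2.2) ?_ x y ?_
  · intro z hz
    obtain ⟨A, hA, hzA, hle⟩ := exists_isAffineOpen_mem_and_subset (U := W) hz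
    exact Opens.mem_iSup.2 ⟨⟨A, hA, hle⟩, hzA⟩
  · intro A
    have hb := R_bijective_top A.1.ι (rfl : A.1.ι ≫ b = A.1.ι ≫ b) N (W := A.1)
      (Scheme.Opens.opensRange_ι _).ge (fun z _ => z.2)
    refine hb.injective ?_
    show R A.1.ι rfl N _ (((Scheme.Modules.pullback b).obj N).presheaf.map (homOfLE A.2.2).op x) =
      R A.1.ι rfl N _ (((Scheme.Modules.pullback b).obj N).presheaf.map (homOfLE A.2.2).op y)
    rw [R_map, R_map]
    exact h A.1 A.2.1 A.2.2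

theorem hom_cmp {T : Scheme.{u}} (q : T ⟶ S) {i j : ι} (a : T ⟶ X i) (b : T ⟶ X j) (ha : a ≫ f i = q)
    (hb : b ≫ f j = q) :
    (Scheme.Modules.pullback a).map (D.cmp hf i) ≫ D.hom a b (ha.trans hb.symm) =
      ((tr a ha (D.glue hf)).hom ≫ (tr b hb (D.glue hf)).inv) ≫ (Scheme.Modules.pullback b).map (D.cmp hf j) := by
  rw [Category.assoc, ← Iso.inv_comp_eq]
  refine hom_ext q fun U m => ?_
  have hinv : ∀ {Y : Scheme.{u}} (c : T ⟶ Y) {v : Y ⟶ S} (hc : c ≫ v = q),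
      (tr c hc (D.glue hf)).inv.app (q ⁻¹ᵁ U) (pbRes q (D.glue hf) le_rfl m) =
        pbRes c ((Scheme.Modules.pullback v).obj (D.glue hf)) (U := v ⁻¹ᵁ U) (by rw [← hc]; rfl)
          (pbRes v (D.glue hf) le_rfl m) := by
    intro Y c v hc
    have h1 := R_pbRes c hc (D.glue hf) (le_refl (v ⁻¹ᵁ U)) (W' := q ⁻¹ᵁ U) (by rw [← hc]; rfl) m
    rw [R_eq] at h1
    rw [← h1]
    have e1 : (tr c hc (D.glue hf)).hom.app (q ⁻¹ᵁ U) ≫ (tr c hc (D.glue hf)).inv.app (q ⁻¹ᵁ U) = 𝟙 _ := by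
      rw [← Scheme.Modules.Hom.comp_app, Iso.hom_inv_id]
      rfl
    exact ConcreteCategory.congr_hom e1 _
  show (D.hom a b _).app (q ⁻¹ᵁ U) (((Scheme.Modules.pullback a).map (D.cmp hf i)).app (q ⁻¹ᵁ U)
      ((tr a ha (D.glue hf)).inv.app (q ⁻¹ᵁ U) (pbRes q (D.glue hf) le_rfl m))) =
    ((Scheme.Modules.pullback b).map (D.cmp hf j)).app (q ⁻¹ᵁ U)
      ((tr b hb (D.glue hf)).inv.app (q ⁻¹ᵁ U) (pbRes q (D.glue hf) le_rfl m))
  rw [hinv a ha, hinv b hb, pbRes_natural, pbRes_natural, cmp_pbRes, cmp_pbRes]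
  refine ext_pbRes b (D.obj j) fun A hA hAle => ?_
  haveI : IsAffine A.toScheme := hA
  rw [D.hom_R A.ι a b (A.ι ≫ a) (A.ι ≫ b) rfl rfl, R_pbRes, R_pbRes]
  exact D.value_eq hf (A.ι ≫ a) (A.ι ≫ b) _ U m _ _

end DD

end Groth.Agent.Lib.QCohDesc
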