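import Groth.Agent.H14.ModDesc.Pt
import Groth.Agent.Lib.DescAlg.PbSecHom
import Groth.Agent.Lib.DescAlg.PbSecSheaf
import Groth.Agent.Lib.DescAlg.FpqcCover
import Groth.Agent.Lib.QCoh.Pullback

/-!
A descent datum of quasi-coherent modules along an fpqc covering family, as a datum on the affine lifts.
-/

set_option autoImplicit false
set_option backward.isDefEq.respectTransparency false
set_option backward.isDefEq.respectTransparency.types false
set_option linter.style.haveILetI false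

universe u w

open CategoryTheory CategoryTheory.Limits AlgebraicGeometry Opposite TopologicalSpace TensorProduct
open ZarCoh.FlatBC.PullbackSections
open Groth.Agent.Lib.DescAlg.PbSec
open Groth.Agent.H14.ModDesc (IsBC IsSL Datum isBC_of_isIso_adjoint)

namespace Groth.Agent.Lib.QCohDesc

/-- The unit maps are natural. -/
theorem R_natural {T Y Z : Scheme.{u}} (g : Z ⟶ T) (a : T ⟶ Y) {M N : Y.Modules} (φ : M ⟶ N)
    {W : T.Opens} {W' : Z.Opens} (e : W' ≤ g ⁻¹ᵁ W) (x : Γ((Scheme.Modules.pullback a).obj M, W)) :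
    R g (rfl : g ≫ a = g ≫ a) N e (((Scheme.Modules.pullback a).map φ).app W x) =
      ((Scheme.Modules.pullback (g ≫ a)).map φ).app W' (R g rfl M e x) := by
  rw [R_eq, R_eq, ← pbRes_natural]
  have h := (Scheme.Modules.pullbackComp g a).hom.naturality φ
  simp only [tr, Scheme.Modules.pullbackCongr, Iso.trans_hom, Iso.app_hom, eqToIso_refl, Iso.refl_hom,
    NatTrans.id_app, Category.comp_id]
  exact congr($(h).app W' (pbRes g _ e x))

/-- Descent data of quasi-coherent modules, in terms of pullbacks of sections. -/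
structure DD {ι : Type u} {S : Scheme.{u}} {X : ι → Scheme.{u}} (f : ∀ i, X i ⟶ S) where
  /-- the modules -/
  obj : ∀ i, (X i).Modules
  qc : ∀ i, (obj i).IsQuasicoherent
  /-- the gluing maps -/
  hom : ∀ {T : Scheme.{u}} {i j : ι} (a : T ⟶ X i) (b : T ⟶ X j), a ≫ f i = b ≫ f j →
    ((Scheme.Modules.pullback a).obj (obj i) ⟶ (Scheme.Modules.pullback b).obj (obj j))
  hom_self : ∀ {T : Scheme.{u}} {i : ι} (a : T ⟶ X i), hom a a rfl = 𝟙 _
  hom_comp : ∀ {T : Scheme.{u}} {i j k : ι} (a : T ⟶ X i) (b : T ⟶ X j) (c : T ⟶ X k)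
    (h : a ≫ f i = b ≫ f j) (h' : b ≫ f j = c ≫ f k), hom a b h ≫ hom b c h' = hom a c (h.trans h')
  hom_R : ∀ {T' T : Scheme.{u}} (g : T' ⟶ T) {i j : ι} (a : T ⟶ X i) (b : T ⟶ X j) (a' : T' ⟶ X i)
    (b' : T' ⟶ X j) (ha : g ≫ a = a') (hb : g ≫ b = b') (h : a ≫ f i = b ≫ f j) {W : T.Opens} {W' : T'.Opens}
    (e : W' ≤ g ⁻¹ᵁ W) (x : Γ((Scheme.Modules.pullback a).obj (obj i), W)),
    R g hb (obj j) e ((hom a b h).app W x) =
      (hom a' b' (by rw [← ha, ← hb, Category.assoc, Category.assoc, h])).app W' (R g ha (obj i) e x)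

namespace DD

variable {ι : Type u} {S : Scheme.{u}} {X : ι → Scheme.{u}} {f : ∀ i, X i ⟶ S} (D : DD f)

theorem isIso_hom {T : Scheme.{u}} {i j : ι} (a : T ⟶ X i) (b : T ⟶ X j) (h : a ≫ f i = b ≫ f j) :
    IsIso (D.hom a b h) :=
  ⟨D.hom b a h.symm, (D.hom_comp a b a h h.symm).trans (D.hom_self a),
    (D.hom_comp b a b h.symm h).trans (D.hom_self b)⟩

/-- An affine scheme over a member. -/
structure Lift (X : ι → Scheme.{u}) where
  /-- the member -/
  i : ι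
  /-- the scheme -/
  Z : Scheme.{u}
  aff : IsAffine Z
  /-- the map -/
  a : Z ⟶ X i

/-- Restriction between lifts. -/
noncomputable def res {l' l : Lift X} (g : l'.Z ⟶ l.Z) (hg : g ≫ l.a ≫ f l.i = l'.a ≫ f l'.i) :
    Γ((Scheme.Modules.pullback l.a).obj (D.obj l.i), ⊤) →+ Γ((Scheme.Modules.pullback l'.a).obj (D.obj l'.i), ⊤) :=
  ((D.hom (g ≫ l.a) l'.a ((Category.assoc _ _ _).trans hg)).app ⊤).hom.comp
    (R g (rfl : g ≫ l.a = g ≫ l.a) (D.obj l.i) (W' := ⊤) le_top)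

theorem res_apply {l' l : Lift X} (g : l'.Z ⟶ l.Z) (hg : g ≫ l.a ≫ f l.i = l'.a ≫ f l'.i)
    (x : Γ((Scheme.Modules.pullback l.a).obj (D.obj l.i), ⊤)) :
    D.res g hg x = (D.hom (g ≫ l.a) l'.a ((Category.assoc _ _ _).trans hg)).app ⊤
      (R g (rfl : g ≫ l.a = g ≫ l.a) (D.obj l.i) le_top x) := rfl

theorem hom_congr_R {T' T : Scheme.{u}} (g : T' ⟶ T) {i j : ι} (a : T ⟶ X i) {a₁ a₂ : T' ⟶ X i} (b : T' ⟶ X j)
    (h₁ : g ≫ a = a₁) (h₂ : g ≫ a = a₂) (hb₁ : a₁ ≫ f i = b ≫ f j) (hb₂ : a₂ ≫ f i = b ≫ f j) {W : T.Opens}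
    {W' : T'.Opens} (e : W' ≤ g ⁻¹ᵁ W) (x : Γ((Scheme.Modules.pullback a).obj (D.obj i), W)) :
    (D.hom a₁ b hb₁).app W' (R g h₁ (D.obj i) e x) = (D.hom a₂ b hb₂).app W' (R g h₂ (D.obj i) e x) := by
  subst h₁ h₂
  rfl

theorem res_id (l : Lift X) (x : Γ((Scheme.Modules.pullback l.a).obj (D.obj l.i), ⊤)) :
    D.res (𝟙 l.Z) (Category.id_comp _) x = x := by
  refine (D.hom_congr_R (𝟙 l.Z) l.a l.a rfl (Category.id_comp _) (by rw [Category.id_comp]) rfl (W := ⊤) (W' := ⊤) le_top x).trans ?_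
  rw [D.hom_self]
  refine (R_id (D.obj l.i) (W := ⊤) (W' := ⊤) le_top x).trans ?_
  show ((Scheme.Modules.pullback l.a).obj (D.obj l.i)).presheaf.map (𝟙 _) x = x
  rw [CategoryTheory.Functor.map_id]
  rfl

theorem res_comp {l'' l' l : Lift X} {g' : l''.Z ⟶ l'.Z} {g : l'.Z ⟶ l.Z}
    (hg' : g' ≫ l'.a ≫ f l'.i = l''.a ≫ f l''.i) (hg : g ≫ l.a ≫ f l.i = l'.a ≫ f l'.i)
    (x : Γ((Scheme.Modules.pullback l.a).obj (D.obj l.i), ⊤)) :
    D.res (g' ≫ g) (by rw [Category.assoc, hg, hg']) x = D.res g' hg' (D.res g hg x) := by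
  rw [res_apply, res_apply, res_apply,
    D.hom_R g' (g ≫ l.a) l'.a ((g' ≫ g) ≫ l.a) (g' ≫ l'.a) (Category.assoc _ _ _).symm rfl,
    R_comp g g' (g' ≫ g) rfl (Category.assoc _ _ _).symm rfl]
  exact (congr($(D.hom_comp ((g' ≫ g) ≫ l.a) (g' ≫ l'.a) l''.a
    (by simp only [Category.assoc]; rw [hg]) ((Category.assoc _ _ _).trans hg')).app ⊤
      (R (g' ≫ g) rfl (D.obj l.i) le_top x))).symm

theorem bc {l' l : Lift X} {g : l'.Z ⟶ l.Z} (hg : g ≫ l.a ≫ f l.i = l'.a ≫ f l'.i) :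
    IsBC g.appTop.hom (D.res g hg) := by
  have := D.qc l.i
  haveI := _root_.Groth.Agent.Lib.QCoh.Pullback.isQCoh_pullback l.a (D.obj l.i)
  haveI := l.aff
  haveI := l'.aff
  have h := (Category.assoc g l.a (f l.i)).trans hg
  have := D.isIso_hom (g ≫ l.a) l'.a h
  let φ := (Scheme.Modules.pullbackPushforwardAdjunction g).homEquiv _ _
    ((tr g (rfl : g ≫ l.a = g ≫ l.a) (D.obj l.i)).hom ≫ D.hom (g ≫ l.a) l'.a h)
  have hφ : IsIso (((Scheme.Modules.pullbackPushforwardAdjunction g).homEquiv _ _).symm φ) := by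
    simp only [φ, Equiv.symm_apply_apply]
    infer_instance
  refine (isBC_of_isIso_adjoint g φ hφ (isAffineOpen_top _) (isAffineOpen_top _) le_top).congr ?_ ?_
  · rw [Scheme.Hom.appTop, Scheme.Hom.app_eq_appLE]
    rfl
  · refine AddMonoidHom.ext fun x => ?_
    show ((Scheme.Modules.pullback l'.a).obj (D.obj l'.i)).presheaf.map (homOfLE le_top).op (φ.app ⊤ x) = _
    simp only [φ, Adjunction.homEquiv_naturality_right]
    exact (ConcreteCategory.congr_hom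
      ((D.hom (g ≫ l.a) l'.a h).mapPresheaf.naturality (homOfLE (le_top (a := (⊤ : l'.Z.Opens)))).op) _).symm

theorem exists_cover (hf : Presieve.ofArrows X f ∈ Scheme.fpqcPrecoverage S) {V : S.Opens} (hV : IsAffineOpen V) :
    ∃ (n : ℕ) (k : Fin n → Lift X) (c : ∀ a, (k a).Z ⟶ V.toScheme),
      (∀ a, c a ≫ V.ι = (k a).a ≫ f (k a).i) ∧ (∀ a, Flat (c a)) ∧ ∀ x, ∃ a, x ∈ Set.range (c a) := by
  let 𝒰 : PreZeroHypercover.{u} S := ⟨ι, X, f⟩
  have : IsAffine V.toScheme := hV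
  have : QuasiCompactCover 𝒰 := Scheme.presieve₀_mem_qcPrecoverage_iff.1 hf.1
  have hflat : ∀ i, Flat (f i) := ((Scheme.ofArrows_mem_precoverage_iff _).1 hf.2).2
  obtain ⟨n, a, U, hU, hcov⟩ := QuasiCompactCover.exists_isAffineOpen_of_isCompact
    (𝒰.pullback₁ V.ι) (U := (⊤ : V.toScheme.Opens))
    (by simpa using (isCompact_univ : IsCompact (Set.univ : Set V.toScheme)))
  refine ⟨n, fun k => ⟨a k, (U k).toScheme, hU k, (U k).ι ≫ pullback.snd V.ι (f (a k))⟩,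
    fun k => (U k).ι ≫ pullback.fst V.ι (f (a k)), fun k => ?_, fun k => ?_, fun x => ?_⟩
  · rw [Category.assoc, Category.assoc, pullback.condition]
  · have := hflat (a k)
    exact inferInstanceAs (Flat ((U k).ι ≫ pullback.fst V.ι (f (a k))))
  · have hx : x ∈ ⋃ k, (𝒰.pullback₁ V.ι).f (a k) '' (U k : Set ((𝒰.pullback₁ V.ι).X (a k))) := by
      rw [hcov]; trivial
    obtain ⟨k, z, hz, rfl⟩ := Set.mem_iUnion.1 hx
    exact ⟨k, ⟨z, hz⟩, rfl⟩

/-- The datum on affine lifts. -/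
noncomputable def toDatum (hf : Presieve.ofArrows X f ∈ Scheme.fpqcPrecoverage S) : Datum.{u, u + 1} S where
  Obj := Lift X
  Z l := l.Z
  isAffine l := l.aff
  b l := l.a ≫ f l.i
  Rel := fun {l' l} g => g ≫ l.a ≫ f l.i = l'.a ≫ f l'.i
  rel_over h := h
  rel_id _ := Category.id_comp _
  rel_comp := fun {l'' l' l g' g} hg' hg => by rw [Category.assoc, hg, hg']
  M l := Γ((Scheme.Modules.pullback l.a).obj (D.obj l.i), ⊤)
  res g hg := D.res g hg
  res_id := D.res_id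
  res_comp hg' hg x := D.res_comp hg' hg x
  bc hg := D.bc hg
  pull l P _ p := ⟨⟨l.i, P, inferInstance, p ≫ l.a⟩, Iso.refl P, by simp⟩
  factor := fun {E l' l g₁ g₂ g} h₁ h₂ hg => by rw [← h₂, reassoc_of% hg, h₁]
  refine' l₁ l₂ P _ p₁ p₂ h :=
    ⟨1, fun _ => ⟨l₁.i, P, inferInstance, p₁ ≫ l₁.a⟩, fun _ => 𝟙 P, fun _ => inferInstance,
      fun x => ⟨0, x, rfl⟩, fun _ => ⟨by simp, by simpa using h.symm⟩⟩
  cover hV := exists_cover hf hV

end DD

end Groth.Agent.Lib.QCohDesc
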